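import Cfsg.Agent.VanishOrd.Main

/-!
# The Sylow subgroup over the `p`-core
-/

set_option autoImplicit false
set_option linter.style.haveILetI false
set_option linter.unusedSectionVars false

open Cfsg Cfsg.Agent.Char

namespace Cfsg.Agent.VanishOrd

universe u

variable {p : ℕ} [hp : Fact p.Prime]

/-- The standing objects: an abelian normal `p'`-subgroup `N` of a group with trivial `p`-core. -/
theorem eq_one_of_centralizes {G : Type u} [Group G] [Finite G] (hO : pCore p G = ⊥)
    (N K : Subgroup G) [N.Normal] [K.Normal] (hNK : N ≤ K)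
    (hKp : IsPGroup p (K.map (QuotientGroup.mk' N))) (hNab : ∀ a b : N, a * b = b * a) {x : G}
    (hxK : x ∈ K) (hxp : ∃ k, orderOf x = p ^ k) (hx : ∀ n ∈ N, x * n = n * x) : x = 1 := by
  set D := K ⊓ Subgroup.centralizer (N : Set G) with hD
  haveI : D.Normal := Subgroup.normal_inf_normal _ _
  have hND : N ≤ D := le_inf hNK fun n hn =>
    Subgroup.mem_centralizer_iff.mpr fun m hm => congrArg Subtype.val (hNab ⟨m, hm⟩ ⟨n, hn⟩)
  let f : D →* (K.map (QuotientGroup.mk' N)) :=
    ((QuotientGroup.mk' N).comp D.subtype).codRestrict _ fun d =>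
      ⟨(d : G), (inf_le_left : D ≤ K) d.2, rfl⟩
  haveI : Group.IsNilpotent (K.map (QuotientGroup.mk' N)) := hKp.isNilpotent
  haveI hnil : Group.IsNilpotent D := Subgroup.isNilpotent_of_ker_le_center f (fun d hd => by
    have hdN : (d : G) ∈ N := (QuotientGroup.eq_one_iff _).mp (congrArg Subtype.val hd)
    refine Subgroup.mem_center_iff.mpr fun e => Subtype.ext ?_
    exact (Subgroup.mem_centralizer_iff.mp e.2.2 _ hdN).symm)
  have hxD : x ∈ D := ⟨hxK, Subgroup.mem_centralizer_iff.mpr fun n hn => (hx n hn).symm⟩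
  obtain ⟨k, hk⟩ := hxp
  obtain ⟨S, hS⟩ := Element.exists_sylow_mem (G := D) (g := ⟨x, hxD⟩) (p := p)
    ((Subgroup.orderOf_mk x hxD).trans hk)
  haveI := S.normal_of_normalizerCondition Group.normalizerCondition_of_isNilpotent
  haveI := S.characteristic_of_normal inferInstance
  have h1 : (S : Subgroup D).map D.subtype ≤ pCore p G :=
    Cores.le_pCore (Cores.normal_map_subtype_of_characteristic _) (S.isPGroup'.map _)
  exact Subgroup.mem_bot.mp (hO ▸ h1 ⟨_, hS, rfl⟩)

/-- In an abelian normal section inside the `p`-core of the quotient everything vanishes. -/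
theorem van_of_abelian_section {G : Type u} [Group G] [Finite G] (hO : pCore p G = ⊥)
    (N : Subgroup G) [N.Normal] (hNab : ∀ a b : N, a * b = b * a) (hco : ¬ p ∣ Nat.card N)
    (P : Sylow p G) (A' : Subgroup (G ⧸ N)) [A'.Normal] (hA' : IsPGroup p A')
    (hab : ∀ a ∈ A', ∀ b ∈ A', a * b = b * a) {x : G} (hx : (x : G ⧸ N) ∈ A') (hxN : x ∉ N) :
    Van x := by
  set π := QuotientGroup.mk' N with hπ
  have hπs : Function.Surjective π := QuotientGroup.mk'_surjective N
  set K := A'.comap π with hK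
  haveI : K.Normal := Subgroup.Normal.comap inferInstance π
  set A := (P : Subgroup G) ⊓ K with hA
  have hAp : IsPGroup p A := P.isPGroup'.to_le inf_le_left
  have hinj : ∀ y ∈ (P : Subgroup G), π y = 1 → y = 1 := by
    intro y hy h1
    have hyN : y ∈ N := (QuotientGroup.eq_one_iff y).mp h1
    obtain ⟨i, hi⟩ := IsPGroup.iff_orderOf.mp P.isPGroup' ⟨y, hy⟩
    rw [Subgroup.orderOf_mk] at hi
    exact orderOf_eq_one_iff.mp (Nat.eq_one_of_dvd_coprimes
      ((hp.out.coprime_iff_not_dvd.mpr hco).pow_left i) (dvd_of_eq hi)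
      (N.orderOf_dvd_natCard hyN))
  have hle : A' ≤ (P.mapSurjective hπs : Subgroup (G ⧸ N)) :=
    hA'.le_sylow_of_normal _
  refine van_outside (p := p) N hNab hco K A hAp ?_ ?_ ?_ hx hxN
  · intro a ha b hb
    rw [← div_eq_one, div_eq_mul_inv]
    refine hinj _ ((P : Subgroup G).mul_mem ((P : Subgroup G).mul_mem ha.1 hb.1)
      ((P : Subgroup G).inv_mem ((P : Subgroup G).mul_mem hb.1 ha.1))) ?_
    rw [map_mul, map_inv, map_mul, map_mul, hab _ ha.2 _ hb.2, mul_inv_cancel]
  · intro a ha hcen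
    refine eq_one_of_centralizes hO N K ?_ ?_ hNab ha.2 ?_ hcen
    · intro n hn
      rw [hK, Subgroup.mem_comap, hπ, QuotientGroup.mk'_apply, (QuotientGroup.eq_one_iff n).mpr hn]
      exact A'.one_mem
    · exact hA'.to_le (Subgroup.map_comap_le π A')
    · exact Element.orderOf_eq_pow_of_mem_isPGroup hAp ha
  · intro k hk
    obtain ⟨a, ha, hak⟩ : ∃ a ∈ (P : Subgroup G), π a = π k := by
      have h := hle hk
      rw [Sylow.coe_mapSurjective] at h
      exact h
    exact ⟨a, ⟨ha, show π a ∈ A' by rw [hak]; exact hk⟩, QuotientGroup.eq.mp hak⟩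

/-- A Sylow subgroup of order `p` over a trivial `p`-core consists of vanishing elements. -/
theorem van_of_card_eq : ∀ (n : ℕ) (G : Type u) [Group G] [Finite G] [Group.IsSolvable G],
    Nat.card G ≤ n → pCore p G = ⊥ → ∀ P : Sylow p G, Nat.card (P : Subgroup G) = p →
    ∀ y ∈ (P : Subgroup G), y ≠ 1 → Van y := by
  intro n
  induction n with
  | zero =>
    intro G _ _ _ hn
    exact absurd hn (not_le.mpr Nat.card_pos)
  | succ n ih =>
    intro G _ _ _ hn hO P hP y hy hy1
    haveI : Nontrivial G := ⟨y, 1, hy1⟩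
    obtain ⟨N, hN, hNne, hNab, hco⟩ := exists_abelian_normal (p := p) (G := G) hO
    set π := QuotientGroup.mk' N with hπ
    have hπs : Function.Surjective π := QuotientGroup.mk'_surjective N
    have hyN : y ∉ N := by
      intro h
      obtain ⟨i, hi⟩ := IsPGroup.iff_orderOf.mp P.isPGroup' ⟨y, hy⟩
      rw [Subgroup.orderOf_mk] at hi
      exact hy1 (orderOf_eq_one_iff.mp (Nat.eq_one_of_dvd_coprimes
        ((hp.out.coprime_iff_not_dvd.mpr hco).pow_left i) (dvd_of_eq hi)
        (N.orderOf_dvd_natCard h)))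
    set Q := P.mapSurjective hπs with hQ
    have hyQ : π y ∈ (Q : Subgroup (G ⧸ N)) := by
      rw [hQ, Sylow.coe_mapSurjective]; exact Subgroup.mem_map_of_mem π hy
    have hyne : π y ≠ 1 := fun h => hyN ((QuotientGroup.eq_one_iff y).mp h)
    have hQc : Nat.card (Q : Subgroup (G ⧸ N)) = p := by
      have h1 : Nat.card (Q : Subgroup (G ⧸ N)) ∣ p := by
        rw [hQ, Sylow.coe_mapSurjective]
        exact (Subgroup.card_map_dvd (P : Subgroup G) π).trans (dvd_of_eq hP)
      refine ((Nat.dvd_prime hp.out).mp h1).resolve_left fun h => hyne ?_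
      rw [Subgroup.card_eq_one.mp h, Subgroup.mem_bot] at hyQ
      exact hyQ
    by_cases hcore : pCore p (G ⧸ N) = ⊥
    · have hlt : Nat.card (G ⧸ N) ≤ n := by
        have h1 : Nat.card (G ⧸ N) < Nat.card G := by
          rw [← Subgroup.index_eq_card, ← N.card_mul_index]
          exact lt_mul_of_one_lt_left (Nat.pos_of_ne_zero Subgroup.index_ne_zero_of_finite)
            ((Subgroup.one_lt_card_iff_ne_bot N).mpr hNne)
        omega
      exact van_of_map π hπs (ih (G ⧸ N) hlt hcore Q hQc (π y) hyQ hyne)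
    · set R' := pCore p (G ⧸ N) with hR'
      have hR'Q : R' ≤ (Q : Subgroup (G ⧸ N)) := Cores.pCore_le_sylow Q
      have hR'eq : R' = (Q : Subgroup (G ⧸ N)) := by
        refine Subgroup.eq_of_le_of_card_ge hR'Q ?_
        rw [hQc]
        rcases Cores.pCore_isPGroup.card_eq_or_dvd (p := p) (G := R') with h | h
        · exact absurd (Subgroup.card_eq_one.mp h) hcore
        · exact Nat.le_of_dvd Nat.card_pos h
      refine van_of_abelian_section hO N hNab hco P R' Cores.pCore_isPGroup ?_ (hR'eq ▸ hyQ) hyN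
      intro a ha b hb
      haveI : IsCyclic R' := isCyclic_of_prime_card (p := p) (hR'eq ▸ hQc)
      exact congrArg Subtype.val (IsCyclic.commGroup.mul_comm (⟨a, ha⟩ : R') ⟨b, hb⟩)

/-- An abelian `p`-group of exponent `p` acting without fixed points has order at most `p`. -/
theorem card_dvd_of_fpf {G : Type u} [Group G] [Finite G] (N : Subgroup G) [N.Normal]
    (hNne : N ≠ ⊥) (hco : ¬ p ∣ Nat.card N) (E : Subgroup G) (hE : IsPGroup p E)
    (hEab : ∀ a ∈ E, ∀ b ∈ E, a * b = b * a) (hexp : ∀ a ∈ E, a ^ p = 1)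
    (hfpf : ∀ a ∈ E, a ≠ 1 → ∀ c ∈ N, Commute a c → c = 1) : Nat.card E ∣ p := by
  haveI : IsMulCommutative E := ⟨⟨fun a b => Subtype.ext (hEab _ a.2 _ b.2)⟩⟩
  by_cases hcyc : IsCyclic E
  · obtain ⟨g, hg⟩ := IsCyclic.exists_ofOrder_eq_natCard (α := E)
    rw [← hg]
    exact orderOf_dvd_of_pow_eq_one (Subtype.ext (hexp _ g.2))
  · exfalso
    apply hNne
    obtain ⟨i, hi⟩ := IsPGroup.iff_card.mp hE
    rw [eq_bot_iff, ← Coprime.iSup_centralizer_eq (K := N) hcyc
      (by rw [Subgroup.normalizer_eq_top]; exact le_top)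
      (hi ▸ (hp.out.coprime_iff_not_dvd.mpr hco).pow_left i)]
    refine iSup₂_le fun a ha c hc => Subgroup.mem_bot.mpr (hfpf a ha.1 ha.2 c hc.1 ?_)
    exact (Subgroup.mem_centralizer_singleton_iff.mp hc.2).symm

/-- The image of a Sylow subgroup over the `p`-core has order at most `p`. -/
theorem relIndex_pCore_dvd : ∀ (n : ℕ) (G : Type u) [Group G] [Finite G] [Group.IsSolvable G],
    Nat.card G ≤ n → VHyp p G → ∀ P : Sylow p G, (pCore p G).relIndex P ∣ p := by
  intro n
  induction n with
  | zero =>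
    intro G _ _ _ hn
    exact absurd hn (not_le.mpr Nat.card_pos)
  | succ n ih =>
    intro G _ _ _ hn hv P
    have hlt : ∀ M : Subgroup G, M ≠ ⊥ → M.Normal → Nat.card (G ⧸ M) ≤ n := by
      intro M hM _
      have h1 : Nat.card (G ⧸ M) < Nat.card G := by
        rw [← Subgroup.index_eq_card, ← M.card_mul_index]
        exact lt_mul_of_one_lt_left (Nat.pos_of_ne_zero Subgroup.index_ne_zero_of_finite)
          ((Subgroup.one_lt_card_iff_ne_bot M).mpr hM)
      omega
    by_cases hO : pCore p G = ⊥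
    swap
    · set O := pCore p G with hOdef
      have h1 := ih (G ⧸ O) (hlt O hO inferInstance)
        (hv.of_surjective _ (QuotientGroup.mk'_surjective O))
        (P.mapSurjective (QuotientGroup.mk'_surjective O))
      rw [Cores.pCore_quotient_pCore_eq_bot, Sylow.coe_mapSurjective,
        ← QuotientGroup.map_mk'_self O, Subgroup.relIndex_map_map, QuotientGroup.ker_mk',
        sup_idem, sup_eq_left.mpr (Cores.pCore_le_sylow P)] at h1
      exact h1
    rw [hO, Subgroup.relIndex_bot_left]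
    by_contra hbig
    haveI : Nontrivial G := by
      by_contra h
      rw [not_nontrivial_iff_subsingleton] at h
      exact hbig (by rw [Nat.card_of_subsingleton (1 : (P : Subgroup G))]; exact one_dvd _)
    obtain ⟨N, hN, hNne, hNab, hco⟩ := exists_abelian_normal (p := p) (G := G) hO
    set π := QuotientGroup.mk' N with hπ
    have hπs : Function.Surjective π := QuotientGroup.mk'_surjective N
    have hinj : ∀ y ∈ (P : Subgroup G), π y = 1 → y = 1 := by
      intro y hy h1
      obtain ⟨i, hi⟩ := IsPGroup.iff_orderOf.mp P.isPGroup' ⟨y, hy⟩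
      rw [Subgroup.orderOf_mk] at hi
      exact orderOf_eq_one_iff.mp (Nat.eq_one_of_dvd_coprimes
        ((hp.out.coprime_iff_not_dvd.mpr hco).pow_left i) (dvd_of_eq hi)
        (N.orderOf_dvd_natCard ((QuotientGroup.eq_one_iff y).mp h1)))
    set Q := P.mapSurjective hπs with hQ
    have hQmap : (Q : Subgroup (G ⧸ N)) = (P : Subgroup G).map π := Sylow.coe_mapSurjective hπs P
    have hQc : Nat.card (Q : Subgroup (G ⧸ N)) = Nat.card (P : Subgroup G) := by
      rw [hQmap]
      refine (Nat.card_eq_of_bijective (π.subgroupMap (P : Subgroup G)) ⟨?_, π.subgroupMap_surjective _⟩).symm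
      rw [injective_iff_map_eq_one]
      exact fun a ha => Subtype.ext (hinj _ a.2 (congrArg Subtype.val ha))
    have hrel := ih (G ⧸ N) (hlt N hNne hN) (hv.of_surjective π hπs) Q
    set R' := pCore p (G ⧸ N) with hR'
    have hR'Q : R' ≤ (Q : Subgroup (G ⧸ N)) := Cores.pCore_le_sylow Q
    have hR'ne : R' ≠ ⊥ := fun e => hbig (by rwa [e, Subgroup.relIndex_bot_left, hQc] at hrel)
    have hR'p : IsPGroup p R' := Cores.pCore_isPGroup
    have hlift : ∀ w ∈ (Q : Subgroup (G ⧸ N)), ∃ y ∈ (P : Subgroup G), π y = w := fun w hw => by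
      rw [hQmap] at hw; exact hw
    have hvA : ∀ A' : Subgroup (G ⧸ N), A'.Normal → A' ≤ R' →
        (∀ a ∈ A', ∀ b ∈ A', a * b = b * a) → ∀ x : G, π x ∈ A' → π x ≠ 1 → Van x := by
      intro A' hA' hle hab x hx hx1
      exact van_of_abelian_section hO N hNab hco P A' (hR'p.to_le hle) hab hx
        fun h => hx1 ((QuotientGroup.eq_one_iff x).mpr h)
    -- the centre of the core
    set Z' := (Subgroup.center R').map R'.subtype with hZ'
    haveI : Z'.Normal := Cores.normal_map_subtype_of_characteristic _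
    have hZ'R : Z' ≤ R' := Subgroup.map_subtype_le _
    have hZ'ab : ∀ a ∈ Z', ∀ b ∈ Z', a * b = b * a := by
      rintro _ ⟨a, ha, rfl⟩ _ ⟨b, hb, rfl⟩
      exact congrArg R'.subtype (Subgroup.mem_center_iff.mp hb a)
    haveI : Nontrivial R' := (Subgroup.nontrivial_iff_ne_bot R').mpr hR'ne
    have hpe : ∃ x : G, x ≠ 1 ∧ (∃ k, orderOf x = p ^ k) ∧ Van x := by
      haveI := hR'p.center_nontrivial
      obtain ⟨z, hz⟩ := exists_ne (1 : Subgroup.center R')
      have hz1 : ((z : R') : G ⧸ N) ≠ 1 := fun e => hz (Subtype.ext (Subtype.ext e))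
      obtain ⟨y, hy, hyz⟩ := hlift _ (hR'Q (z : R').2)
      exact ⟨y, fun e => hz1 (by rw [← hyz, e, map_one]),
        Element.orderOf_eq_pow_of_mem_isPGroup P.isPGroup' hy,
        hvA Z' inferInstance hZ'R hZ'ab y (hyz ▸ Subgroup.mem_map_of_mem _ z.2) (hyz ▸ hz1)⟩
    -- vanishing cosets force no fixed points and exponent `p`
    have hgood : ∀ S : Subgroup (G ⧸ N), (∀ x : G, π x ∈ S → π x ≠ 1 → Van x) →
        ∀ y ∈ (P : Subgroup G), π y ∈ S →
          y ^ p = 1 ∧ (y ≠ 1 → ∀ c ∈ N, Commute y c → c = 1) := by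
      intro S hS y hy hyS
      refine ⟨?_, fun hy1 c hc hcy => ?_⟩
      · by_contra hne
        have hy1 : π y ≠ 1 := fun e => hne (by rw [hinj y hy e, one_pow])
        exact hv.pow y (Element.orderOf_eq_pow_of_mem_isPGroup P.isPGroup' hy) (hS y hyS hy1) hne
          (hS _ (by rw [map_pow]; exact S.pow_mem hyS p)
            fun e => hne (hinj _ ((P : Subgroup G).pow_mem hy p) e))
      · refine eq_one_of_commute hv hpe N hco hy1
          (Element.orderOf_eq_pow_of_mem_isPGroup P.isPGroup' hy) (fun d hd => ?_) hc hcy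
        have e : π (y * d) = π y := by
          rw [map_mul, show π d = 1 from (QuotientGroup.eq_one_iff d).mpr hd, mul_one]
        exact hS _ (by rw [e]; exact hyS) (by rw [e]; exact fun h => hy1 (hinj y hy h))
    have hsmall : ∀ S : Subgroup (G ⧸ N), S ≤ (Q : Subgroup (G ⧸ N)) →
        (∀ a ∈ S, ∀ b ∈ S, a * b = b * a) → (∀ x : G, π x ∈ S → π x ≠ 1 → Van x) →
        Nat.card S ∣ p := by
      intro S hSQ hab hS
      have h1 : Nat.card ((P : Subgroup G) ⊓ S.comap π : Subgroup G) ∣ p := by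
        refine card_dvd_of_fpf N hNne hco _ (P.isPGroup'.to_le inf_le_left) ?_ ?_ ?_
        · intro a ha b hb
          rw [← div_eq_one, div_eq_mul_inv]
          refine hinj _ ((P : Subgroup G).mul_mem ((P : Subgroup G).mul_mem ha.1 hb.1)
            ((P : Subgroup G).inv_mem ((P : Subgroup G).mul_mem hb.1 ha.1))) ?_
          rw [map_mul, map_inv, map_mul, map_mul, hab _ ha.2 _ hb.2, mul_inv_cancel]
        · exact fun a ha => (hgood S hS a ha.1 ha.2).1
        · exact fun a ha => (hgood S hS a ha.1 ha.2).2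
      have h2 : S ≤ ((P : Subgroup G) ⊓ S.comap π).map π := fun s hs => by
        obtain ⟨y, hy, rfl⟩ := hlift s (hSQ hs)
        exact ⟨y, ⟨hy, hs⟩, rfl⟩
      exact ((Subgroup.card_dvd_of_le h2).trans (Subgroup.card_map_dvd _ π)).trans h1
    have hR'card : Nat.card R' = p := by
      refine ((Nat.dvd_prime hp.out).mp ?_).resolve_left fun e => hR'ne (Subgroup.card_eq_one.mp e)
      by_cases hab : ∀ a ∈ R', ∀ b ∈ R', a * b = b * a
      · exact hsmall R' hR'Q hab (hvA R' inferInstance le_rfl hab)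
      exfalso
      push Not at hab
      obtain ⟨a, ha, b, hb, hne⟩ := hab
      have hcl : commutator R' ≤ Subgroup.center R' := commutator_le_center_of_small hR'p
        fun S hS hSab => by
          haveI : (S.map R'.subtype).Normal := Cores.normal_map_subtype_of_characteristic _
          have hab' : ∀ a ∈ S.map R'.subtype, ∀ b ∈ S.map R'.subtype, a * b = b * a := by
            rintro _ ⟨a, ha, rfl⟩ _ ⟨b, hb, rfl⟩
            exact congrArg R'.subtype (hSab a ha b hb)
          rw [← Subgroup.card_map_of_injective (K := S) R'.subtype_injective]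
          exact hsmall _ ((Subgroup.map_subtype_le S).trans hR'Q) hab'
            (hvA _ inferInstance (Subgroup.map_subtype_le S) hab')
      have hZcard : Nat.card Z' = p := by
        refine ((Nat.dvd_prime hp.out).mp (hsmall Z' (hZ'R.trans hR'Q) hZ'ab
          (hvA Z' inferInstance hZ'R hZ'ab))).resolve_left fun e => ?_
        haveI := hR'p.center_nontrivial
        obtain ⟨z, hz⟩ := exists_ne (1 : Subgroup.center R')
        have hmem : ((z : R') : G ⧸ N) ∈ Z' := Subgroup.mem_map_of_mem R'.subtype z.2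
        rw [Subgroup.card_eq_one.mp e] at hmem
        have := Subgroup.mem_bot.mp hmem
        exact hz (Subtype.ext (Subtype.ext this))
      have hvan : ∀ x : G, π x ∈ R' → π x ≠ 1 → Van x := by
        intro x hx hx1
        by_cases hxZ : π x ∈ Z'
        · exact hvA Z' inferInstance hZ'R hZ'ab x hxZ hx1
        set a₁ : R' := ⟨π x, hx⟩ with ha₁
        have hnc : a₁ ∉ Subgroup.center R' := fun h => hxZ ⟨a₁, h, rfl⟩
        rw [Subgroup.mem_center_iff] at hnc
        push Not at hnc
        obtain ⟨r, hr⟩ := hnc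
        have hzc : r * a₁ * r⁻¹ * a₁⁻¹ ∈ Subgroup.center R' :=
          hcl (by rw [commutator_def]
                  exact Subgroup.commutator_mem_commutator (Subgroup.mem_top r) (Subgroup.mem_top a₁))
        have hz1 : r * a₁ * r⁻¹ * a₁⁻¹ ≠ 1 := fun h => hr (by
          rw [← mul_inv_eq_iff_eq_mul, ← mul_inv_eq_one]; exact h)
        refine van_of_map π hπs (van_noncentral R' a₁ r hzc hz1 fun g => ?_)
        have hzZ : ((r * a₁ * r⁻¹ * a₁⁻¹ : R') : G ⧸ N) ∈ Z' :=
          Subgroup.mem_map_of_mem R'.subtype hzc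
        have hcZ := Subgroup.Normal.conj_mem (inferInstance : Z'.Normal) _ hzZ g
        have hgen := mem_zpowers_of_prime_card hZcard (g := (⟨_, hcZ⟩ : Z'))
          (g' := (⟨_, hzZ⟩ : Z')) fun e => hz1 (Subtype.ext (by
            have h := congrArg Subtype.val e
            exact mul_eq_left.mp (mul_inv_eq_one.mp h)))
        obtain ⟨i, hi⟩ := hgen
        exact ⟨i, (Subgroup.coe_zpow Z' _ i).symm.trans (congrArg Subtype.val hi)⟩
      obtain ⟨z, hz⟩ : ∃ z, z ∈ Z' ∧ z ≠ 1 :=
        Z'.bot_or_exists_ne_one.resolve_left fun e => hp.out.ne_one (by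
          rw [← hZcard, e, Subgroup.card_bot])
      obtain ⟨⟨z', hz'c, rfl⟩, hz1⟩ := hz
      have hE : Nat.card (Subgroup.zpowers a ⊔ Z' : Subgroup (G ⧸ N)) ∣ p := by
        have hle : Subgroup.zpowers a ⊔ Z' ≤ R' := sup_le (Subgroup.zpowers_le.mpr ha) hZ'R
        refine hsmall _ (hle.trans hR'Q) ?_ fun x hx hx1 => hvan x (hle hx) hx1
        have hc : ∀ z ∈ Z', Commute a z := by
          rintro _ ⟨w, hw, rfl⟩
          exact congrArg R'.subtype (Subgroup.mem_center_iff.mp hw ⟨a, ha⟩)
        intro s hs t ht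
        rw [← SetLike.mem_coe, Subgroup.mul_normal] at hs ht
        obtain ⟨_, ⟨i, rfl⟩, u, hu, rfl⟩ := Set.mem_mul.mp hs
        obtain ⟨_, ⟨j, rfl⟩, w, hw, rfl⟩ := Set.mem_mul.mp ht
        have h1 : Commute (a ^ i) (a ^ j * w) :=
          ((Commute.refl a).zpow_zpow i j).mul_right ((hc w hw).zpow_left i)
        have h2 : Commute u (a ^ j * w) :=
          ((hc u hu).symm.zpow_right j).mul_right (hZ'ab u hu w hw)
        exact (h1.mul_left h2).eq
      have hZeq : Z' = Subgroup.zpowers a ⊔ Z' :=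
        Subgroup.eq_of_le_of_card_ge le_sup_right (hZcard ▸ Nat.le_of_dvd hp.out.pos hE)
      obtain ⟨w, hw, hwa⟩ : a ∈ Z' := hZeq ▸ Subgroup.mem_sup_left (Subgroup.mem_zpowers a)
      have hw' := congrArg R'.subtype (Subgroup.mem_center_iff.mp hw ⟨b, hb⟩)
      rw [map_mul, map_mul, hwa] at hw'
      exact hne hw'.symm
    -- the Sylow subgroup has order `p ^ 2`
    have hrelcard : R'.relIndex (Q : Subgroup (G ⧸ N)) * p = Nat.card (P : Subgroup G) := by
      have h := Subgroup.relIndex_mul_relIndex (⊥ : Subgroup (G ⧸ N)) R' (Q : Subgroup (G ⧸ N)) bot_le hR'Q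
      rw [Subgroup.relIndex_bot_left, Subgroup.relIndex_bot_left, hR'card, hQc, mul_comm] at h
      exact h
    have hsq : Nat.card (P : Subgroup G) = p ^ 2 := by
      rcases (Nat.dvd_prime hp.out).mp hrel with h | h
      · exact absurd (dvd_of_eq (by rw [← hrelcard, h, one_mul])) hbig
      · rw [← hrelcard, h, pow_two]
    have hPab : ∀ a ∈ (Q : Subgroup (G ⧸ N)), ∀ b ∈ (Q : Subgroup (G ⧸ N)), a * b = b * a := by
      haveI : IsMulCommutative (Q : Subgroup (G ⧸ N)) :=
        IsPGroup.isMulCommutative_of_card_eq_prime_sq (hQc.trans hsq)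
      exact fun a ha b hb =>
        congrArg Subtype.val (IsMulCommutative.is_comm.comm (⟨a, ha⟩ : (Q : Subgroup (G ⧸ N))) ⟨b, hb⟩)
    have hR'ab : ∀ a ∈ R', ∀ b ∈ R', a * b = b * a :=
      fun a ha b hb => hPab a (hR'Q ha) b (hR'Q hb)
    apply hbig
    rw [← hQc]
    refine hsmall _ le_rfl hPab fun x hx hx1 => ?_
    by_cases hxR : π x ∈ R'
    · exact hvA R' inferInstance le_rfl hR'ab x hxR hx1
    set ρ := QuotientGroup.mk' R' with hρ
    have hρs : Function.Surjective ρ := QuotientGroup.mk'_surjective R'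
    refine van_of_map π hπs (van_of_map ρ hρs (van_of_card_eq (p := p) _ _ le_rfl
      Cores.pCore_quotient_pCore_eq_bot (Q.mapSurjective hρs) ?_ (ρ (π x)) ?_ ?_))
    · rw [Sylow.coe_mapSurjective]
      have h1 := Subgroup.relIndex_map_map ρ R' (Q : Subgroup (G ⧸ N))
      rw [QuotientGroup.ker_mk', sup_idem, sup_eq_left.mpr hR'Q, hρ, QuotientGroup.map_mk'_self,
        Subgroup.relIndex_bot_left] at h1
      rw [← hρ] at h1
      rw [h1]
      refine Nat.eq_of_mul_eq_mul_right hp.out.pos ?_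
      rw [hrelcard, hsq, pow_two]
    · rw [Sylow.coe_mapSurjective]; exact Subgroup.mem_map_of_mem ρ hx
    · exact fun e => hxR ((QuotientGroup.eq_one_iff _).mp e)

end Cfsg.Agent.VanishOrd
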