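import Cfsg.Agent.CharGraph.PDegreeBasic
import Cfsg.Agent.CharInd.Correspondence
import Cfsg.Agent.Lib.Element
import Cfsg.Agent.Coprime.Generation

/-!
# Vanishing elements and the orders they force
-/

set_option autoImplicit false
set_option linter.style.haveILetI false
set_option linter.unusedSectionVars false

open Cfsg Cfsg.Agent.Char

namespace Cfsg.Agent.VanishOrd

universe u

/-- An element at which some irreducible character is zero. -/
def Van {G : Type u} [Group G] (g : G) : Prop := ∃ χ : IrrCharacter G, (χ : G → ℂ) g = 0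

/-- The hereditary form of "all vanishing elements of order divisible by `p` have one order". -/
structure VHyp (p : ℕ) (G : Type u) [Group G] : Prop where
  pelem : (∃ x : G, x ≠ 1 ∧ (∃ k, orderOf x = p ^ k) ∧ Van x) →
    ∀ g : G, Van g → p ∣ orderOf g → ∃ k, orderOf g = p ^ k
  pow : ∀ x : G, (∃ k, orderOf x = p ^ k) → Van x → x ^ p ≠ 1 → ¬ Van (x ^ p)

variable {G : Type u} [Group G] [Finite G]

theorem van_of_map {H : Type u} [Group H] (f : G →* H) (hf : Function.Surjective f) {g : G}
    (h : Van (f g)) : Van g := by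
  obtain ⟨χ, hχ⟩ := h
  exact ⟨⟨_, CharInd.irr_comp_surjective f hf χ.2⟩, hχ⟩

theorem VHyp.of_surjective {p : ℕ} [hp : Fact p.Prime] (h : VHyp p G) {H : Type u} [Group H]
    (f : G →* H) (hf : Function.Surjective f) : VHyp p H := by
  constructor
  · rintro ⟨x, hx1, ⟨k, hk⟩, hx⟩ g hg hpg
    obtain ⟨y, rfl, hy⟩ := Element.exists_pElement_preimage hp.out f hf hk
    obtain ⟨g, rfl⟩ := hf g
    obtain ⟨i, hi⟩ := h.pelem ⟨y, fun e => hx1 (by rw [e, map_one]), hy, van_of_map f hf hx⟩ g
      (van_of_map f hf hg) (hpg.trans (orderOf_map_dvd f g))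
    obtain ⟨j, -, hj⟩ := (Nat.dvd_prime_pow hp.out).mp (hi ▸ orderOf_map_dvd f g)
    exact ⟨j, hj⟩
  · rintro x ⟨k, hk⟩ hx hne hv
    obtain ⟨y, rfl, hy⟩ := Element.exists_pElement_preimage hp.out f hf hk
    rw [← map_pow] at hne hv
    exact h.pow y hy (van_of_map f hf hx) (fun e => hne (by rw [e, map_one])) (van_of_map f hf hv)

/-- An element no conjugate of which fixes a linear character of a normal subgroup vanishes. -/
theorem van_of_forall_not_fix (N : Subgroup G) [N.Normal] (f : N →* ℂˣ) (x : G)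
    (hx : ∀ g : G, ∃ n : N, f (MulAut.conjNormal (g⁻¹ * x * g) n) ≠ f n) : Van x := by
  classical
  letI := Fintype.ofFinite G
  letI := Fintype.ofFinite N
  set θ : IrrCharacter N := ⟨_, isIrrCharacter_monoidHom f⟩ with hθ
  obtain ⟨χ, hχ⟩ := CharGraph.exists_irr_over N θ
  obtain ⟨ψ, -, hψ⟩ := CharInd.exists_induced_from_stab N χ.2 θ.2 hχ
  refine ⟨χ, ?_⟩
  rw [← hψ]
  refine CharInd.indFun_eq_zero_of_forall _ _ fun g hg => ?_
  obtain ⟨n, hn⟩ := hx g
  have h := congrFun ((CharInd.mem_conjStab N).mp hg) n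
  rw [CharInd.conjChar_apply] at h
  exact hn (Units.ext (Eq.trans (congrArg (fun t => (f t : ℂ))
    (Subtype.ext (MulAut.conjNormal_apply _ _))) h))

section Regular

variable (N : Subgroup G) [N.Normal]

/-- Conjugation on the linear characters of a normal subgroup. -/
noncomputable def act (g : G) (f : N →* ℂˣ) : N →* ℂˣ :=
  f.comp (MulAut.conjNormal g : MulAut N).toMonoidHom

theorem act_mul (g h : G) (f : N →* ℂˣ) : act N (g * h) f = act N h (act N g f) :=
  MonoidHom.ext fun n => by simp [act]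

theorem act_one (f : N →* ℂˣ) : act N 1 f = f := MonoidHom.ext fun n => by simp [act]

theorem act_map_mul (g : G) (f f' : N →* ℂˣ) : act N g (f * f') = act N g f * act N g f' :=
  MonoidHom.ext fun n => by simp [act]

theorem act_map_inv (g : G) (f : N →* ℂˣ) : act N g f⁻¹ = (act N g f)⁻¹ :=
  MonoidHom.ext fun n => by simp [act]

theorem act_map_pow (g : G) (f : N →* ℂˣ) (k : ℕ) : act N g (f ^ k) = act N g f ^ k :=
  MonoidHom.ext fun n => by simp [act]

theorem act_map_prod (g : G) {ι : Type*} (s : Finset ι) (F : ι → (N →* ℂˣ)) :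
    act N g (∏ i ∈ s, F i) = ∏ i ∈ s, act N g (F i) :=
  MonoidHom.ext fun n => by simp [act]

/-- The product over the powers of an element. -/
noncomputable def norm (b : G) (f : N →* ℂˣ) : N →* ℂˣ :=
  ∏ i ∈ Finset.range (orderOf b), act N (b ^ i) f

theorem act_norm_self (b : G) (f : N →* ℂˣ) : act N b (norm N b f) = norm N b f := by
  rw [norm, act_map_prod]
  have h1 := Finset.prod_range_succ' (fun i => act N (b ^ i) f) (orderOf b)
  have h2 := Finset.prod_range_succ (fun i => act N (b ^ i) f) (orderOf b)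
  rw [h2, pow_orderOf_eq_one, pow_zero, act_one] at h1
  have h3 := mul_right_cancel h1
  rw [h3]
  exact Finset.prod_congr rfl fun i _ => by rw [← act_mul, pow_succ]

theorem norm_of_fixed {b : G} {f : N →* ℂˣ} (h : act N b f = f) :
    norm N b f = f ^ orderOf b := by
  have h1 : ∀ i : ℕ, act N (b ^ i) f = f := by
    intro i
    induction i with
    | zero => rw [pow_zero, act_one]
    | succ i ih => rw [pow_succ', act_mul, h, ih]
  rw [norm, Finset.prod_congr rfl fun i _ => h1 i, Finset.prod_const, Finset.card_range]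

theorem norm_map_inv (b : G) (f : N →* ℂˣ) : norm N b f⁻¹ = (norm N b f)⁻¹ := by
  refine MonoidHom.ext fun n => ?_
  simp [norm, act]

theorem norm_map_mul (b : G) (f f' : N →* ℂˣ) : norm N b (f * f') = norm N b f * norm N b f' := by
  simp only [norm, act_map_mul, Finset.prod_mul_distrib]

theorem norm_map_pow (b : G) (f : N →* ℂˣ) (k : ℕ) : norm N b (f ^ k) = norm N b f ^ k := by
  simp only [norm, act_map_pow, Finset.prod_pow]

/-- An abelian `p`-group acting faithfully on an abelian normal `p'`-subgroup fixes no element of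
a suitable orbit of linear characters. -/
theorem exists_regular {p : ℕ} [hp : Fact p.Prime] (A : Subgroup G) (hA : IsPGroup p A)
    (hAab : ∀ a ∈ A, ∀ b ∈ A, a * b = b * a) (hNab : ∀ a b : N, a * b = b * a)
    (hco : ¬ p ∣ Nat.card N) (hfaith : ∀ a ∈ A, (∀ n ∈ N, a * n = n * a) → a = 1) :
    ∃ f : N →* ℂˣ, ∀ a ∈ A, (∀ n : N, f (MulAut.conjNormal a n) = f n) → a = 1 := by
  classical
  haveI : Finite (N →* ℂˣ) := monoidHom_complex_finite
  obtain ⟨v, hv⟩ := Finite.exists_min fun f : N →* ℂˣ => Nat.card {a : A // act N (a : G) f = f}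
  refine ⟨v, fun b hb hbv => by_contra fun hb1 => ?_⟩
  have hbv' : act N b v = v := MonoidHom.ext hbv
  obtain ⟨i, hi⟩ := IsPGroup.iff_orderOf.mp hA ⟨b, hb⟩
  rw [Subgroup.orderOf_mk] at hi
  have cancel : ∀ f f' : N →* ℂˣ, f ^ orderOf b = f' ^ orderOf b → f = f' := by
    intro f f' h
    refine MonoidHom.ext fun n => div_eq_one.mp (orderOf_eq_one_iff.mp ?_)
    refine Nat.eq_one_of_dvd_coprimes (((hp.out.coprime_iff_not_dvd.mpr hco).pow_left i))
      (orderOf_dvd_of_pow_eq_one ?_) (orderOf_dvd_of_pow_eq_one ?_)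
    · rw [← hi, div_pow, div_eq_one, ← MonoidHom.pow_apply, ← MonoidHom.pow_apply, h]
    · rw [div_pow, ← map_pow, ← map_pow, pow_card_eq_one', map_one, map_one, div_one]
  -- a character moved by `b`
  obtain ⟨w, hw⟩ : ∃ w, act N b w ≠ w := by
    by_contra! hall
    refine hb1 (hfaith b hb fun n hn => ?_)
    have h1 : MulAut.conjNormal b (⟨n, hn⟩ : N) * (⟨n, hn⟩ : N)⁻¹ = 1 := by
      by_contra h1
      obtain ⟨χ, hχ⟩ := exists_irr_ne_degree h1
      obtain ⟨f, hf⟩ := irr_exists_monoidHom_of_comm hNab χ.2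
      apply hχ
      have h2 : f (MulAut.conjNormal b (⟨n, hn⟩ : N)) = f ⟨n, hn⟩ :=
        DFunLike.congr_fun (hall f) _
      rw [hf, hf, map_mul, map_inv, h2, mul_inv_cancel, map_one]
    have h2 := congrArg Subtype.val (mul_inv_eq_one.mp h1)
    rw [MulAut.conjNormal_apply] at h2
    exact mul_inv_eq_iff_eq_mul.mp h2
  set u := w ^ orderOf b * (norm N b w)⁻¹ with hu
  have hnu : norm N b u = 1 := by
    rw [hu, norm_map_mul, norm_map_inv, norm_map_pow, norm_of_fixed N (act_norm_self N b w)]
    refine MonoidHom.ext fun n => ?_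
    simp
  have hbu : act N b u ≠ u := by
    intro h
    rw [norm_of_fixed N h] at hnu
    have h1 : u = 1 := cancel u 1 (hnu.trans (MonoidHom.ext fun n => by simp))
    replace h1 : w ^ orderOf b = norm N b w := MonoidHom.ext fun n =>
      mul_inv_eq_one.mp (DFunLike.congr_fun h1 n)
    apply hw
    refine cancel _ _ ?_
    rw [← act_map_pow, h1, act_norm_self]
  have hsub : ∀ a : A, act N (a : G) (v * u) = v * u →
      act N (a : G) v = v ∧ act N (a : G) u = u := by
    intro a ha
    have hcomm : ∀ f, norm N b (act N (a : G) f) = act N (a : G) (norm N b f) := by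
      intro f
      simp only [norm, act_map_prod, ← act_mul]
      exact Finset.prod_congr rfl fun j _ => by rw [hAab _ a.2 _ (A.pow_mem hb j)]
    have h1 : norm N b (v * u) = v ^ orderOf b := by
      rw [norm_map_mul, hnu, norm_of_fixed N hbv']
      exact MonoidHom.ext fun n => by simp
    have h2 : act N (a : G) v = v := by
      refine cancel _ _ ?_
      rw [← act_map_pow, ← h1, ← hcomm, ha]
    refine ⟨h2, ?_⟩
    rw [act_map_mul, h2] at ha
    exact mul_left_cancel ha
  have hlt : Nat.card {a : A // act N (a : G) (v * u) = v * u} <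
      Nat.card {a : A // act N (a : G) v = v} := by
    refine Set.Finite.card_lt_card (Set.toFinite _) (Set.ssubset_iff_of_subset ?_ |>.mpr
      ⟨⟨b, hb⟩, hbv', fun h => hbu (hsub _ h).2⟩)
    exact fun a ha => (hsub a ha).1
  exact (hv (v * u)).not_gt hlt

end Regular

end Cfsg.Agent.VanishOrd
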