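import Cfsg.Agent.VanishOrd.Basic
import Cfsg.Agent.Cores.Fitting
import Cfsg.Agent.PGroup.Basic

/-!
# One order of vanishing elements divisible by `p` in a solvable group
-/

set_option autoImplicit false
set_option linter.style.haveILetI false
set_option linter.unusedSectionVars false

open Cfsg Cfsg.Agent.Char

namespace Cfsg.Agent.VanishOrd

universe u

variable {p : ℕ} [hp : Fact p.Prime]

/-- A `p`-group whose abelian characteristic subgroups have order at most `p` has class at most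
two. -/
theorem commutator_le_center_of_small {R : Type u} [Group R] [Finite R] (hR : IsPGroup p R)
    (h : ∀ S : Subgroup R, S.Characteristic → (∀ a ∈ S, ∀ b ∈ S, a * b = b * a) → Nat.card S ∣ p) :
    commutator R ≤ Subgroup.center R := by
  by_contra hnot
  set Z := Subgroup.center R with hZ
  set S := commutator R ⊓ Subgroup.upperCentralSeries R 2 with hS
  have hZ2 : Z ≤ Subgroup.upperCentralSeries R 2 := by
    rw [hZ, ← Subgroup.upperCentralSeries_one]; exact Subgroup.upperCentralSeries_mono R one_le_two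
  have hcomm : ∀ a ∈ S, ∀ b ∈ S, a * b = b * a := by
    intro a ha b hb
    have h2 : ∀ r : R, r * a * r⁻¹ * a⁻¹ ∈ Z := fun r => by
      have := (Subgroup.mem_upperCentralSeries_succ_iff.mp ha.2) r
      rw [Subgroup.upperCentralSeries_one, commutatorElement_def] at this
      have e : r * a * r⁻¹ * a⁻¹ = (a * r * a⁻¹ * r⁻¹)⁻¹ := by group
      rw [e]
      exact Z.inv_mem this
    let φ : R →* Subgroup.center R := MonoidHom.mk' (fun r => ⟨r * a * r⁻¹ * a⁻¹, h2 r⟩) fun r s => Subtype.ext (by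
      show r * s * a * (r * s)⁻¹ * a⁻¹ = r * a * r⁻¹ * a⁻¹ * (s * a * s⁻¹ * a⁻¹)
      have hc := Subgroup.mem_center_iff.mp (h2 s) r
      calc r * s * a * (r * s)⁻¹ * a⁻¹
          = r * (s * a * s⁻¹ * a⁻¹) * (a * r⁻¹ * a⁻¹) := by group
        _ = s * a * s⁻¹ * a⁻¹ * r * (a * r⁻¹ * a⁻¹) := by rw [hc]
        _ = s * a * s⁻¹ * a⁻¹ * (r * a * r⁻¹ * a⁻¹) := by group
        _ = _ := (Subgroup.mem_center_iff.mp (h2 s) _).symm)
    have hker : commutator R ≤ φ.ker := by
      rw [commutator_def, Subgroup.commutator_le]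
      intro g _ g' _
      rw [MonoidHom.mem_ker, map_commutatorElement, commutatorElement_eq_one_iff_commute]
      exact Subtype.ext (Subgroup.mem_center_iff.mp (φ g').2 _)
    have hb1 := congrArg Subtype.val (hker hb.1 : φ b = 1)
    exact (mul_inv_eq_iff_eq_mul.mp (mul_inv_eq_one.mp hb1)).symm
  haveI : S.Characteristic := Subgroup.characteristic_iff_map_eq.mpr fun e => by
    rw [hS, Subgroup.map_inf _ _ _ e.injective,
      Subgroup.characteristic_iff_map_eq.mp inferInstance e,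
      Subgroup.characteristic_iff_map_eq.mp inferInstance e]
  have hcard := h S inferInstance hcomm
  have hne : commutator R ≠ ⊥ := fun e => hnot (e ▸ bot_le)
  obtain ⟨z, hz, hz1⟩ := (commutator R ⊓ Z).bot_or_exists_ne_one.resolve_left
    (PGroup.inf_center_ne_bot hR _ hne)
  set π := QuotientGroup.mk' Z
  haveI : ((commutator R).map π).Normal :=
    Subgroup.Normal.map inferInstance π (QuotientGroup.mk'_surjective Z)
  have hne' : (commutator R).map π ≠ ⊥ := fun e => hnot (by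
    rw [Subgroup.map_eq_bot_iff, QuotientGroup.ker_mk'] at e; exact e)
  obtain ⟨q, ⟨hq, hqZ⟩, hq1⟩ := (((commutator R).map π) ⊓ Subgroup.center (R ⧸ Z)).bot_or_exists_ne_one.resolve_left
    (PGroup.inf_center_ne_bot (hR.to_quotient Z) _ hne')
  obtain ⟨d, hd, rfl⟩ := hq
  have hd2 : d ∈ Subgroup.upperCentralSeries R 2 := Subgroup.mem_upperCentralSeries_succ_iff.mpr fun y => by
    rw [Subgroup.upperCentralSeries_one, ← hZ, ← QuotientGroup.eq_one_iff (N := Z),
      ← QuotientGroup.mk'_apply, map_commutatorElement, commutatorElement_eq_one_iff_commute]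
    exact (Subgroup.mem_center_iff.mp hqZ _).symm
  apply hq1
  have hzS : z ∈ S := ⟨hz.1, hZ2 hz.2⟩
  rcases (Nat.dvd_prime hp.out).mp hcard with h1 | h1
  · exact absurd (Subgroup.mem_bot.mp (Subgroup.card_eq_one.mp h1 ▸ hzS)) hz1
  · have hdz := mem_zpowers_of_prime_card h1 (g := (⟨z, hzS⟩ : S)) (g' := ⟨d, hd, hd2⟩)
      (fun e => hz1 (congrArg Subtype.val e))
    obtain ⟨i, hi⟩ := hdz
    have hi' : z ^ i = d := congrArg Subtype.val hi
    rw [← hi', QuotientGroup.mk'_apply, QuotientGroup.eq_one_iff]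
    exact Z.zpow_mem hz.2 i

variable {G : Type u} [Group G] [Finite G]

/-- If a whole coset of a normal `p'`-subgroup at a `p`-element vanishes, the element centralises
nothing of the subgroup. -/
theorem eq_one_of_commute (hv : VHyp p G) (hpe : ∃ x : G, x ≠ 1 ∧ (∃ k, orderOf x = p ^ k) ∧ Van x)
    (N : Subgroup G) (hco : ¬ p ∣ Nat.card N) {y : G} (hy1 : y ≠ 1)
    (hy : ∃ k, orderOf y = p ^ k) (hyN : ∀ c ∈ N, Van (y * c)) {c : G} (hc : c ∈ N)
    (hcy : Commute y c) : c = 1 := by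
  obtain ⟨k, hk⟩ := hy
  have hcp : ¬ p ∣ orderOf c := fun h => hco (h.trans (N.orderOf_dvd_natCard hc))
  have hco' : (orderOf y).Coprime (orderOf c) :=
    hk ▸ (hp.out.coprime_iff_not_dvd.mpr hcp).pow_left k
  have ho := hcy.orderOf_mul_eq_mul_orderOf_of_coprime hco'
  have hk0 : k ≠ 0 := fun e => hy1 (orderOf_eq_one_iff.mp (by rw [hk, e, pow_zero]))
  obtain ⟨i, hi⟩ := hv.pelem hpe _ (hyN c hc) (ho ▸ hk ▸ dvd_mul_of_dvd_left (dvd_pow_self p hk0) _)
  exact orderOf_eq_one_iff.mp (Nat.eq_one_of_dvd_coprimes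
    ((hp.out.coprime_iff_not_dvd.mpr hcp).pow_left i) (hi ▸ ho ▸ dvd_mul_left _ _) dvd_rfl)

/-- Outside `N`, an abelian `p`-extension of an abelian normal `p'`-subgroup vanishes. -/
theorem van_outside (N : Subgroup G) [N.Normal] (hNab : ∀ a b : N, a * b = b * a)
    (hco : ¬ p ∣ Nat.card N) (K : Subgroup G) [K.Normal] (A : Subgroup G) (hA : IsPGroup p A)
    (hAab : ∀ a ∈ A, ∀ b ∈ A, a * b = b * a)
    (hfaith : ∀ a ∈ A, (∀ n ∈ N, a * n = n * a) → a = 1)
    (hcov : ∀ k ∈ K, ∃ a ∈ A, a⁻¹ * k ∈ N) {x : G} (hxK : x ∈ K) (hxN : x ∉ N) : Van x := by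
  obtain ⟨f, hf⟩ := exists_regular N A hA hAab hNab hco hfaith
  refine van_of_forall_not_fix N f x fun g => ?_
  set w := g⁻¹ * x * g with hw
  have hwK : w ∈ K := by simpa [hw] using Subgroup.Normal.conj_mem inferInstance x hxK g⁻¹
  obtain ⟨a, ha, han⟩ := hcov w hwK
  by_contra! hall
  have h1 : ∀ n : N, f (MulAut.conjNormal a n) = f n := by
    intro n
    refine Eq.trans (congrArg f (Subtype.ext ?_)) (hall n)
    have h2 := congrArg Subtype.val (hNab ⟨_, han⟩ n)
    rw [MulAut.conjNormal_apply, MulAut.conjNormal_apply]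
    calc a * (n : G) * a⁻¹ = a * ((n : G) * (a⁻¹ * w)) * w⁻¹ := by group
      _ = a * (a⁻¹ * w * n) * w⁻¹ := by
        rw [show (n : G) * (a⁻¹ * w) = a⁻¹ * w * n from h2.symm]
      _ = w * n * w⁻¹ := by group
  have ha1 := hf a ha h1
  rw [ha1, inv_one, one_mul] at han
  exact hxN (by simpa [hw, mul_assoc] using Subgroup.Normal.conj_mem inferInstance w han g)

/-- A non-central element of a normal subgroup vanishes if a commutator with it generates a normal
central subgroup. -/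
theorem van_noncentral (R : Subgroup G) [R.Normal] (a r : R)
    (hz : r * a * r⁻¹ * a⁻¹ ∈ Subgroup.center R) (hz1 : r * a * r⁻¹ * a⁻¹ ≠ 1)
    (hgen : ∀ x : G, ((r * a * r⁻¹ * a⁻¹ : R) : G) ∈
      Subgroup.zpowers (x * ((r * a * r⁻¹ * a⁻¹ : R) : G) * x⁻¹)) : Van (a : G) := by
  classical
  letI := Fintype.ofFinite G
  letI := Fintype.ofFinite R
  set z := r * a * r⁻¹ * a⁻¹ with hzdef
  obtain ⟨ψ, hψ⟩ := exists_irr_ne_degree hz1
  obtain ⟨χ, hχ⟩ := CharGraph.exists_irr_over R ψ
  obtain ⟨K, -, hK⟩ := isCharacter_exists_kernel (isCharacter_of_irr ψ.2)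
  refine ⟨χ, ?_⟩
  have h1 := congrFun (CharInd.clifford R χ.2 ψ.2 hχ) a
  simp only [Pi.smul_apply, Finset.sum_apply, smul_eq_mul] at h1
  rw [h1, Finset.sum_eq_zero fun φ hφ => ?_, mul_zero]
  obtain ⟨x, rfl⟩ := (CharInd.mem_conjClass R).mp hφ
  have hirr := CharInd.conjChar_irr R x ψ.2
  obtain ⟨ω, -, hω1, hω⟩ := irr_mul_center hirr hz
  have e : CharInd.conjChar R x (ψ : R → ℂ) (z * a) = CharInd.conjChar R x (ψ : R → ℂ) a := by
    rw [show z * a = r * a * r⁻¹ by rw [hzdef]; group]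
    exact irr_isClassFunction hirr a r
  rw [hω] at e
  by_contra hne
  have hw : ω = 1 := mul_right_cancel₀ hne (e.trans (one_mul _).symm)
  rw [hw, one_mul] at hω1
  apply hψ
  rw [CharInd.conjChar_apply, CharInd.conjChar_apply] at hω1
  have hmem : (⟨x * z * x⁻¹, Subgroup.Normal.conj_mem inferInstance _ z.2 x⟩ : R) ∈ K :=
    (hK _).mpr (hω1.trans (congrArg _ (Subtype.ext (by simp))))
  obtain ⟨i, hi⟩ := hgen x
  refine (hK z).mp ?_
  rw [show z = (⟨x * z * x⁻¹, Subgroup.Normal.conj_mem inferInstance _ z.2 x⟩ : R) ^ i from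
    Subtype.ext (by rw [Subgroup.coe_zpow]; exact hi.symm)]
  exact K.zpow_mem hmem i

/-- A solvable group with trivial `p`-core has an abelian normal `p'`-subgroup. -/
theorem exists_abelian_normal [Group.IsSolvable G] [Nontrivial G] (hO : pCore p G = ⊥) :
    ∃ N : Subgroup G, N.Normal ∧ N ≠ ⊥ ∧ (∀ a b : N, a * b = b * a) ∧ ¬ p ∣ Nat.card N := by
  obtain ⟨q, hq, hne⟩ := Cores.exists_pCore_ne_bot (G := G)
  haveI := Fact.mk hq
  haveI : (pCore q G).Normal := inferInstance
  set F := pCore q G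
  haveI : Nontrivial F := (Subgroup.nontrivial_iff_ne_bot F).mpr hne
  haveI : Nontrivial (Subgroup.center F) := IsPGroup.center_nontrivial Cores.pCore_isPGroup
  refine ⟨(Subgroup.center F).map F.subtype, Cores.normal_map_subtype_of_characteristic _, ?_, ?_, ?_⟩
  · rw [Ne, Subgroup.map_eq_bot_iff_of_injective _ F.subtype_injective, ← Ne,
      ← Subgroup.nontrivial_iff_ne_bot]
    infer_instance
  · rintro ⟨_, a, ha, rfl⟩ ⟨_, b, hb, rfl⟩
    exact Subtype.ext (congrArg F.subtype (Subgroup.mem_center_iff.mp hb a))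
  · intro hd
    obtain ⟨k, hk⟩ := IsPGroup.iff_card.mp (Cores.pCore_isPGroup (p := q) (G := G))
    have h1 : p ∣ q ^ k := hk ▸ hd.trans (Subgroup.card_dvd_of_le (Subgroup.map_subtype_le _))
    have hqp : q = p := ((Nat.prime_dvd_prime_iff_eq hp.out hq).mp (hp.out.dvd_of_dvd_pow h1)).symm
    subst hqp
    exact hne hO

end Cfsg.Agent.VanishOrd
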